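import Cfsg.Agent.H449.Reg.Abs

/-!
# S3691, reduction of the plus type: the list lemmas as hypotheses (helper826)

* `LO F n k a b` : the list lemma for quadratic spaces of dimension `n` over `F`, groups containing elements of orders `a` and `b`
* `LS F n k a b` : the same for groups preserving the polar form (characteristic two)
-/

set_option autoImplicit false

namespace Cfsg.Agent.H826.RgF

open Module QuadraticMap Cfsg Cfsg.Geo Cfsg.Agent.LieClassical.OrthCore Cfsg.Agent.LieClassical.OrthTrans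
  Cfsg.Agent.H449.Reg Cfsg.Agent.H955 Cfsg.Agent.H954.TSing Cfsg.Agent.H884.El
open Cfsg.Agent.H951 (fx cm Inv)

section

variable {F : Type} [Field F] {V : Type} [AddCommGroup V] [Module F V]

/-- `W` is `A`-invariant -/
def Iv (A : Subgroup (V ≃ₗ[F] V)) (W : Submodule F V) : Prop := ∀ a ∈ A, ∀ w ∈ W, a w ∈ W

/-- `A` is reducible -/
def Rd (A : Subgroup (V ≃ₗ[F] V)) : Prop := ∃ W : Submodule F V, W ≠ ⊥ ∧ W ≠ ⊤ ∧ ∀ a ∈ A, ∀ w ∈ W, a w ∈ W

/-- `A` contains an element of order `a` -/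
def El (A : Subgroup (V ≃ₗ[F] V)) (a : ℕ) : Prop := ∃ g ∈ A, orderOf g = a

end

/-- the list lemma (orthogonal) -/
def LO (F : Type) [Field F] (n k a b : ℕ) : Prop :=
  ∀ {V : Type} [AddCommGroup V] [Module F V] [FiniteDimensional F V] {Q : QuadraticForm F V}, Nondeg Q → finrank F V = n →
    ∀ A : Subgroup (V ≃ₗ[F] V), A ≤ O Q → El A a → El A b →
    Rd A ∨ (∃ s, s.Prime ∧ s ∣ Nat.gcd n k ∧ AExt s A) ∨ E Q ≤ A

/-- the list lemma (symplectic, characteristic two) -/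
def LS (F : Type) [Field F] (n k a b : ℕ) : Prop :=
  ∀ {V : Type} [AddCommGroup V] [Module F V] [FiniteDimensional F V] {Q : QuadraticForm F V}, Nondeg Q → finrank F V = n →
    ∀ A : Subgroup (V ≃ₗ[F] V), (∀ h ∈ A, ∀ u v, polar Q (h u) (h v) = polar Q u v) → El A a → El A b →
    Rd A ∨ (∃ s, s.Prime ∧ s ∣ Nat.gcd n k ∧ AExt s A) ∨
    (∀ x : V ≃ₗ[F] V, (∀ u v, polar Q (x u) (x v) = polar Q u v) → x ∈ A) ∨
    (∃ Q' : QuadraticForm F V, (∀ u v, polar Q' u v = polar Q u v) ∧ E Q' ≤ A)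

end Cfsg.Agent.H826.RgF
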