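import Cfsg.Agent.H826.Rg.PlusFalse
import Cfsg.Agent.H859.Rg.CtxOrth

/-!
# S3691, row of `PΩ⁺_{2m}(q)`: the residual case F-D+1 (helper826)

* `dvd_Y` : a prime dividing the number of vectors of norm `Q v` divides the order of the other factor
* `resV_false` : `ResV` is impossible in the context `Cx` of plus type
-/

set_option autoImplicit false
set_option linter.unusedSectionVars false

namespace Cfsg.Agent.H826.RgF

open QuadraticMap Module Cfsg Cfsg.Geo
open Cfsg.Agent.LieClassical.OrthCore Cfsg.Agent.LieClassical.OrthTrans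
open Cfsg.Agent.ClassicalGeometry.OrthSemi Cfsg.Agent.H454.Reg Cfsg.Agent.H449.Reg Cfsg.Agent.H884.El
open Cfsg.Agent.H964.Rg (ResV Cx)
open Cfsg.Agent.H955 (IsPlus)
open Cfsg.Agent.H826.Rg Cfsg.Agent.H826.Rg920
open Cfsg.Agent.LieClassical.OrthFinite (glEquiv)
open scoped MatrixGroups Matrix

universe u v

section

variable {F : Type*} {V : Type*} [Field F] [AddCommGroup V] [Module F V] {Q : QuadraticForm F V}
variable [Finite F] [FiniteDimensional F V]

/-- a central element of `E Q` has order at most two -/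
theorem sq_of_central (hG : Good Q) {g : V ≃ₗ[F] V} (hg : g ∈ E Q)
    (hc : (⟨g, hg⟩ : ↥(E Q)) ∈ Subgroup.center ↥(E Q)) : g ^ 2 = 1 := by
  obtain ⟨p, hp⟩ := CharP.exists F
  have hpp : p.Prime := CharP.char_is_prime F p
  exact (pow_two_of_central hpp hG hg hc).1

theorem fac_eq_zero' {Z : Type*} [Group Z] [Finite Z] {r : ℕ} (hr : r.Prime) (hr2 : r ≠ 2) (h : ∀ z : Z, z ^ 2 = 1) :
    (Nat.card Z).factorization r = 0 :=
  fac_eq_zero hr fun z => ⟨h z, fun h2 => absurd h2 hr2⟩

/-- the `r`-part of `|T|`, `r` odd -/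
theorem fac_T' {G : Type*} [Group G] {T : Subgroup G} [Finite G] {r : ℕ} (hr : r.Prime) (hr2 : r ≠ 2) (hG : Good Q)
    (e : T ≃* (↥(E Q) ⧸ Subgroup.center ↥(E Q))) :
    (Nat.card T).factorization r = (Nat.card (E Q)).factorization r := by
  have hfV : Finite V := Module.finite_of_finite F
  have hfE : Finite (V ≃ₗ[F] V) := Finite.of_injective (fun e : V ≃ₗ[F] V => (e : V → V)) DFunLike.coe_injective
  have h1 : Nat.card (Subgroup.center ↥(E Q)) * Nat.card T = Nat.card (E Q) := by
    rw [Nat.card_congr e.toEquiv]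
    exact Subgroup.card_mul_index _
  have h4 : (Nat.card (Subgroup.center ↥(E Q))).factorization r = 0 :=
    fac_eq_zero' hr hr2 fun z => Subtype.ext (Subtype.ext (sq_of_central hG z.1.2 z.2))
  rw [← h1, Nat.factorization_mul Nat.card_pos.ne' Nat.card_pos.ne', Finsupp.add_apply, h4, zero_add]

/-- the `r`-part of `|X ∩ T|` is that of the preimage, `r` odd -/
theorem fac_preE' {G : Type*} [Group G] {T : Subgroup G} [T.Normal] [Finite G] {r : ℕ} (hr : r.Prime) (hr2 : r ≠ 2)
    (hG : Good Q) {e : T ≃* (↥(E Q) ⧸ Subgroup.center ↥(E Q))} {X : Subgroup G} :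
    (Nat.card (X.subgroupOf T)).factorization r = (Nat.card (preE e X)).factorization r := by
  have hfV : Finite V := Module.finite_of_finite F
  have hfE : Finite (V ≃ₗ[F] V) := Finite.of_injective (fun e : V ≃ₗ[F] V => (e : V → V)) DFunLike.coe_injective
  have h1 : Nat.card (piE e X).ker * Nat.card (piE e X).range = Nat.card (preE e X) := by
    rw [← Subgroup.index_ker]
    exact Subgroup.card_mul_index _
  have h2 : Nat.card (X.subgroupOf T) = Nat.card (piE e X).range := by
    rw [card_subgroupOf]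
    have h3 : X ⊓ T = (piE e X).range := by
      ext x
      constructor
      · intro hx
        obtain ⟨d, rfl⟩ := exists_piE (e := e) hx
        exact ⟨d, rfl⟩
      · rintro ⟨d, rfl⟩
        exact piE_mem d
    rw [h3]
  have h4 : (Nat.card (piE e X).ker).factorization r = 0 :=
    fac_eq_zero' hr hr2 fun z => Subtype.ext (Subtype.ext (sq_of_central hG z.1.2.1 (central_of_piE (MonoidHom.mem_ker.1 z.2))))
  rw [h2, ← h1, Nat.factorization_mul Nat.card_pos.ne' Nat.card_pos.ne', Finsupp.add_apply, h4, zero_add]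

end

section

variable {ι : Type} [Fintype ι] [DecidableEq ι] {F : Type v} [Field F] [Finite F] {Q : QuadraticForm F (ι → F)}
  {G : Type u} [Group G] [Finite G] {T : Subgroup G} [T.Normal] {hG : Good Q} {eT : T ≃* POmega F (⇑Q)} {X Y : Subgroup G}
  {hI : Ind (eP hG eT)} {v : ι → F}

/-- an odd prime which divides the number of vectors of norm `Q v` (`X` fixes the point `⟨v⟩`) divides `|Y ∩ T|` -/
theorem dvd_Y {r : ℕ} (hr : r.Prime) (hr2 : r ≠ 2) (hf : Fac T X Y) (hR : ResV hI X v) (ho : ¬ r ∣ Nat.card (Cfsg.Out T))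
    (hd : r ∣ Nat.card {u : ι → F // Q u = Q v}) : r ∣ Nat.card (preG eT Y) := by
  have hfE : Finite ((ι → F) ≃ₗ[F] (ι → F)) :=
    Finite.of_injective (fun e : (ι → F) ≃ₗ[F] (ι → F) => (e : (ι → F) → (ι → F))) DFunLike.coe_injective
  have hv0 : v ≠ 0 := by
    rintro rfl
    exact hR.ne (QuadraticMap.map_zero Q)
  have h1 := card_orbit_stab (E Q) v
  have h2 : (MulAction.orbit (E Q) v).ncard = Nat.card {u : ι → F // Q u = Q v} := by
    have h3 : MulAction.orbit (E Q) v = {u | Q u = Q v} := by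
      ext u
      constructor
      · rintro ⟨g, rfl⟩
        exact E_le_O g.2 v
      · intro hu
        have hu0 : u ≠ 0 := by
          rintro rfl
          have hu' : Q 0 = Q v := hu
          rw [QuadraticMap.map_zero] at hu'
          exact hR.ne hu'.symm
        obtain ⟨g, hg, hgu⟩ := hG.trans_norm hv0 hu0 (Eq.symm hu)
        exact ⟨⟨g, hg⟩, hgu⟩
    rw [h3]
    rfl
  have h3 := card_orbit_stab (preE (eP hG eT) X) v
  have h4 : ((MulAction.orbit (preE (eP hG eT) X) v).ncard).factorization r = 0 := by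
    have hsub : MulAction.orbit (preE (eP hG eT) X) v ⊆ {v, -v} := by
      rintro _ ⟨g, rfl⟩
      have h5 := hR.fix _ g.2.2
      have h6 : act hI (((eP hG eT).symm (QuotientGroup.mk ⟨g.1, g.2.1⟩) : T) : G) (F ∙ v) =
          (F ∙ v).map (g.1 : (ι → F) →ₗ[F] (ι → F)) :=
        act_T hG hI (x := ⟨g.1, g.2.1⟩) (by rw [MulEquiv.apply_symm_apply]) _
      rw [h6] at h5
      have h7 : g.1 v ∈ F ∙ v := by
        rw [← h5]
        exact ⟨v, Submodule.mem_span_singleton_self v, rfl⟩
      obtain ⟨a, ha⟩ := Submodule.mem_span_singleton.1 h7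
      have h8 := E_le_O g.2.1 v
      rw [← ha, QuadraticMap.map_smul, smul_eq_mul] at h8
      have haa : a * a = 1 := mul_right_cancel₀ hR.ne (by rw [h8, one_mul])
      rcases mul_self_eq_one_iff.1 haa with rfl | rfl
      · left
        show g.1 v = v
        rw [← ha, one_smul]
      · right
        show g.1 v = -v
        rw [← ha, neg_smul, one_smul]
    have h6 : (MulAction.orbit (preE (eP hG eT) X) v).ncard ≤ 2 :=
      (Set.ncard_le_ncard hsub).trans ((Set.ncard_insert_le _ _).trans (by rw [Set.ncard_singleton]))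
    apply Nat.factorization_eq_zero_of_not_dvd
    intro hd
    have h7 : 0 < (MulAction.orbit (preE (eP hG eT) X) v).ncard := by
      rw [Set.ncard_pos]
      exact ⟨v, MulAction.mem_orbit_self _⟩
    have h8 := Nat.le_of_dvd h7 hd
    have h9 := hr.two_le
    omega
  have h5 : Nat.card (MulAction.stabilizer (preE (eP hG eT) X) v) ∣ Nat.card (MulAction.stabilizer (E Q) v) := by
    let φ : MulAction.stabilizer (preE (eP hG eT) X) v →* MulAction.stabilizer (E Q) v :=
      { toFun := fun g => ⟨⟨g.1.1, g.1.2.1⟩, g.2⟩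
        map_one' := rfl
        map_mul' := fun _ _ => rfl }
    refine Subgroup.card_dvd_of_injective φ fun a b hab => ?_
    have h6 : (φ a).1.1 = (φ b).1.1 := by rw [hab]
    exact Subtype.ext (Subtype.ext h6)
  have h6 := hf.val_eq ho
  have h7 := fac_preE' (e := eP hG eT) (X := X) hr hr2 hG
  have h8 := fac_preE' (e := eP hG eT) (X := Y) hr hr2 hG
  have h9 := fac_T' hr hr2 hG (eP hG eT)
  have hn : Nat.card {u : ι → F // Q u = Q v} ≠ 0 := by
    have : Nonempty {u : ι → F // Q u = Q v} := ⟨⟨v, rfl⟩⟩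
    exact Nat.card_pos.ne'
  have ho : (MulAction.orbit (preE (eP hG eT) X) v).ncard ≠ 0 := by
    rw [← pos_iff_ne_zero, Set.ncard_pos]
    exact ⟨v, MulAction.mem_orbit_self _⟩
  have hs1 : Nat.card (MulAction.stabilizer (preE (eP hG eT) X) v) ≠ 0 := Nat.card_pos.ne'
  have hs2 : Nat.card (MulAction.stabilizer (E Q) v) ≠ 0 := Nat.card_pos.ne'
  rw [← h3, Nat.factorization_mul ho hs1, Finsupp.add_apply, h4, zero_add] at h7
  rw [← h1, h2, Nat.factorization_mul hn hs2, Finsupp.add_apply] at h9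
  have h10 := (Nat.factorization_le_iff_dvd hs1 hs2).2 h5 r
  have h11 : 1 ≤ (Nat.card {u : ι → F // Q u = Q v}).factorization r :=
    (hr.dvd_iff_one_le_factorization hn).1 hd
  rw [← card_preE (hG := hG)]
  exact (hr.dvd_iff_one_le_factorization Nat.card_pos.ne').2 (by omega)

end

section

variable {ι : Type} [Fintype ι] [DecidableEq ι] {F : Type v} [Field F] [Fintype F] {Q : QuadraticForm F (ι → F)}
variable {G : Type u} [Group G] [Finite G] {T : Subgroup G} [T.Normal] {hG : Good Q} {eT : T ≃* POmega F (⇑Q)}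
  {hI : Ind (eP hG eT)} {X Y H B : Subgroup G} {p f m : ℕ} {v : ι → F}

/-- **the residual case F-D+1 in the context of plus type** -/
theorem resV_false (hMain : H667.HerFin.Main.{v}) (hJ : H997.Rg.OutJ1.{v}) (hE : Ex T H B) (h0 : ¬ T ≤ B)
    (hXY : (X = H ∧ Y = B) ∨ (X = B ∧ Y = H)) (hc : Cx hI X Y p f m (2 * m - 2)) (hm : 5 ≤ m)
    (hS : H997.Rg.SzM m (p ^ f)) (hP : IsPlus Q) (hR : ResV hI X v) : False := by
  have h6 : ¬ (p = 2 ∧ f * m = 6) := by
    rintro ⟨rfl, h6⟩
    have h1 := hc.pos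
    have h2 : f = 1 := by
      by_contra hcon
      have : 2 * 5 ≤ f * m := Nat.mul_le_mul (by omega) hm
      omega
    subst h2
    have h3 := hS.2.2 (by omega)
    omega
  have h5 : 5 ≤ f * m := by
    have := Nat.mul_le_mul hc.pos hm
    omega
  obtain ⟨r, hr, ho, hlt, -⟩ := H370.Rg.exists_rk (p := p) (f := f) (k := m) hc.prime (by omega) h6
  have hr2 : r ≠ 2 := by omega
  obtain ⟨U, hU, hUd⟩ := hP
  rw [hc.finrank_V] at hUd
  have hD : ∃ D : Submodule F (ι → F), finrank F D = m ∧ ∀ x ∈ D, Q x = 0 := ⟨U, by omega, hU⟩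
  have hout : ¬ r ∣ Nat.card (Cfsg.Out T) := hc.out m r (by omega) ⟨hr, ho⟩
  have hcnt : Nat.card {u : ι → F // Q u = Q v} = (p ^ f) ^ (m - 1) * ((p ^ f) ^ m - 1) :=
    H826.Rg920.cnt F (ι → F) Q (p ^ f) m (Q v) hG.nondeg hc.card hc.finrank_V (by omega) hR.ne hD
  refine plus_false' hMain hJ hE h0 hXY hR hc.prime hc.pos hc.card hc.dim (by omega) hS hD hr ho
    (dvd_Y hr hr2 hc.fac hR hout ?_)
  rw [hcnt]
  exact ((H370.Rg.dvd_q_pow_sub hr ho (by omega) m).2 dvd_rfl).mul_left _

end

end Cfsg.Agent.H826.RgF
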