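import Cfsg.Agent.H826.RgF.Data
import Cfsg.Agent.H826.RgF.VEnd
import Cfsg.Agent.H559.D2.Fin

/-!
# S3691, reduction of the plus type: glue (helper826)
-/

set_option autoImplicit false
set_option linter.unusedSectionVars false

namespace Cfsg.Agent.H826.RgF

open Module QuadraticMap Cfsg Cfsg.Geo Cfsg.Agent.LieClassical.OrthCore Cfsg.Agent.LieClassical.OrthTrans
  Cfsg.Agent.H454.Reg Cfsg.Agent.H449.Reg Cfsg.Agent.H955 Cfsg.Agent.H954.TSing Cfsg.Agent.H884.El
open Cfsg.Agent.H951 (fx cm Inv)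
open Cfsg.Agent.H826.Rg (preE mem_preE preE_le_E preE_le_O mem_preE_iff mem_preE_iff' card_preE)
open Cfsg.Agent.H964.Rg (ResV ResP Cx)
open Cfsg.Agent.LieClassical.OrthFinite (glEquiv)
open scoped MatrixGroups Matrix

universe u

/-- the designated primes, `m` even, with the list lemmas for sections -/
structure DEv (F : Type) [Field F] (p f m r2 i r4 j w b c : ℕ) : Prop where
  ev : DEven F p f m r2 i r4 j w b c
  c6 : m < 8 → c = 1
  lo4a : LO F (2 * m - 2) (2 * m - 4) (r4 ^ j) w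
  lo4b : (2 : F) ≠ 0 → LO F (2 * m - 1) (2 * m - 4) (r4 ^ j) w
  ls4 : (2 : F) = 0 → LS F (2 * m - 2) (2 * m - 4) (r4 ^ j) w
  lo2b : (2 : F) ≠ 0 → LO F (2 * m - 1) (2 * m - 2) (r2 ^ i) w
  ls2 : (2 : F) = 0 → LS F (2 * m - 2) (2 * m - 2) (r2 ^ i) w

variable {ι : Type} [Fintype ι] [DecidableEq ι] {F : Type} [Field F] [Fintype F] {Q : QuadraticForm F (ι → F)}
variable {G : Type u} [Group G] [Finite G] {T : Subgroup G} [T.Normal] {hG : Good Q} {eT : T ≃* POmega F (⇑Q)}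
  {hI : Ind (eP hG eT)} {X Y : Subgroup G} {p f m N : ℕ}

/-- elements of prime power order, `k > m` -/
theorem el_preE (h : Cx hI X Y p f m N) {k r a : ℕ} (hr : PP p (f * k) r) (hk : 2 ≤ k) (hmk : m < k)
    (hd : r ^ a ∣ Nat.card (X.subgroupOf T)) : El (preE (eP hG eT) X) (r ^ a) := by
  obtain ⟨g, hg, ho⟩ := h.elt hr hk hmk hd
  exact ⟨glEquiv ι F g, mem_preE_iff.2 hg, by rw [MulEquiv.orderOf_eq, ho]⟩

theorem card_dvd_preE : Nat.card (X.subgroupOf T) ∣ Nat.card (preE (eP hG eT) X) := by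
  rw [card_preE]
  exact card_dvd_preG

/-- odd primes -/
theorem dvd_preE_iff {r : ℕ} (hr : r.Prime) (hr2 : r ≠ 2) :
    r ∣ Nat.card (preE (eP hG eT) X) ↔ r ∣ Nat.card (X.subgroupOf T) := by
  have h := fac_preE' (e := eP hG eT) (X := X) hr hr2 hG
  have hfE : Finite ((ι → F) ≃ₗ[F] (ι → F)) := Finite.of_injective (fun e : (ι → F) ≃ₗ[F] (ι → F) => (e : (ι → F) → (ι → F))) DFunLike.coe_injective
  constructor
  · intro h1
    have h2 := hr.factorization_pos_of_dvd Nat.card_pos.ne' h1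
    rw [← h] at h2
    exact Nat.dvd_of_factorization_pos h2.ne'
  · exact fun h1 => h1.trans card_dvd_preE

/-- elements of prime order -/
theorem el_prime {r : ℕ} (hr : r.Prime) (hd : r ∣ Nat.card (X.subgroupOf T)) : El (preE (eP hG eT) X) r :=
  el_of_dvd hr (hd.trans card_dvd_preE)

/-- a prime of odd order `k ≤ m` divides the order of a factor -/
theorem dich_odd (h : Cx hI X Y p f m N) (e : Nonempty (T ≃* POmega F (quadFormPlus m F))) (hm : 4 ≤ m) {k w : ℕ}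
    (hk3 : 3 ≤ k) (hkm : k ≤ m) (hw : PP p (f * k) w) :
    w ∣ Nat.card (X.subgroupOf T) ∨ w ∣ Nat.card (Y.subgroupOf T) :=
  h.fac.prime_dvd hw.prime (H70.Rg.plus_odd hm h.prime h.pos h.fcard hk3 hkm hw e) (h.out k w hk3 hw)

end Cfsg.Agent.H826.RgF
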