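import Cfsg.Agent.H2.Rg.DOddCore
import Cfsg.Agent.H735.Rg.LoEight
import Cfsg.Agent.H396.Rg.SpEightFin
import Cfsg.Agent.H269.Rg.LoNine

/-!
# S3691, plus type, `m` odd: the designated primes (helper826; the core is helper2's)
-/

set_option autoImplicit false

namespace Cfsg.Agent.H826.RgF

open Module QuadraticMap Cfsg

theorem exists_dodd (hP : H659.CovCore.S5948Stmt.{0})
    (hKS : ∀ (T : Type) [Group T] [Finite T] [IsSimpleGroup T], IsKnownSimple' T)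
    {F : Type} [Field F] [Fintype F] {p f m : ℕ} (hp : p.Prime) (hf : 1 ≤ f) (hF : Nat.card F = p ^ f) (hm : 5 ≤ m)
    (hodd : Odd m) (hS : H997.Rg.SzM m (p ^ f)) : ∃ r2 i r4 j w, DOdd F p f m r2 i r4 j w :=
  H2.Rg.exists_dodd_of
    (fun hp hF h5 hQ hn hH g hg hr ho hb => H735.Rg.lo_eight hp hF h5 hQ hn hH hg hr ho hb)
    (fun hF h5 hQ hn hH g hg hr ho hb => H396.Rg.sp_eight hF h5 hQ hn hH hg hr ho hb)
    (fun hp hp2 hF h5 hQ hn hH g hg hr ho hb => H269.Rg.lo_nine hp hp2 hF h5 hQ hn hH hg hr ho hb)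
    hP hKS hp hf hF hm hodd hS

end Cfsg.Agent.H826.RgF
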