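import Cfsg.Agent.H826.RgF.VEnd
import Cfsg.Agent.H559.D2.Fin

/-!
# S3691: the groups `PΩ⁺_{2m}(q)`, `m ≥ 5` (helper826)

* `PlusRed` : the reduction to the residual cases (helper964)
* `D2False` : the residual case F-D+2 is impossible
* `no_ex_plus` : no `Ex T H B` with `T ≃* PΩ⁺_{2m}(q)`, `m ≥ 5`
-/

set_option autoImplicit false
set_option linter.unusedSectionVars false

namespace Cfsg.Agent.H826.RgF

open QuadraticMap Module Cfsg Cfsg.Geo
open Cfsg.Agent.LieClassical.OrthCore Cfsg.Agent.LieClassical.OrthTrans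
open Cfsg.Agent.ClassicalGeometry.OrthSemi Cfsg.Agent.H454.Reg Cfsg.Agent.H449.Reg Cfsg.Agent.H884.El
open Cfsg.Agent.H964.Rg (ResV ResP Cx)
open Cfsg.Agent.H955 (IsPlus)
open Cfsg.Agent.LieClassical.OrthFinite (glEquiv)
open scoped MatrixGroups Matrix

universe u

/-- the reduction of the plus type -/
def PlusRed : Prop := ∀ {ι : Type} [Fintype ι] [DecidableEq ι] {F : Type} [Field F] [Fintype F] {Q : QuadraticForm F (ι → F)}
  {G : Type u} [Group G] [Finite G] {T : Subgroup G} [T.Normal] {hG : Good Q} {eT : T ≃* POmega F (⇑Q)}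
  {hI : Ind (eP hG eT)} {X Y : Subgroup G} {p f m : ℕ}, 5 ≤ m → H997.Rg.SzM m (p ^ f) → IsPlus Q →
  Cx hI X Y p f m (2 * m - 2) → (∃ v, ResV hI X v ∨ ResV hI Y v) ∨ ∃ P, ResP hI X P ∨ ResP hI Y P

/-- F-D+2 is impossible -/
def D2False : Prop := ∀ {F V : Type} [Field F] [Finite F] [AddCommGroup V] [Module F V] [FiniteDimensional F V]
  {Q : QuadraticForm F V} {p f m : ℕ} {K : Subgroup (V ≃ₗ[F] V)}, H386.Rg.D2 Q p f m K → False

/-- **`PΩ⁺_{2m}(q)`, `m ≥ 5`** -/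
theorem no_ex_plus (hRed : PlusRed.{u}) (hD2 : D2False) (hMain : H667.HerFin.Main.{0}) (hJ : H997.Rg.OutJ1.{0})
    {F : Type} [Field F] [Fintype F] {m : ℕ} (hm : 5 ≤ m) {G : Type u} [Group G] [Finite G] {T H B : Subgroup G}
    (hE : Ex T H B) (hf : Fac T H B) (hT : Nonempty (T ≃* POmega F (quadFormPlus m F))) : False := by
  obtain ⟨e⟩ := hT
  obtain ⟨p, f, hp, hf1, hF'⟩ := exists_char F
  have hF : Fintype.card F = p ^ f := by rw [← Nat.card_eq_fintype_card]; exact hF'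
  have := hf.normal
  obtain ⟨ι, _, _, Q, hG, eT, hI, hc, hP⟩ := H859.Rg.exists_cx_plus hm hp hf1 hF hf ⟨e⟩
  have hS0 := H559.D2.size hF' hm e hf.large
  have hS : H997.Rg.SzM m (p ^ f) := ⟨fun h => by omega, hS0.1, hS0.2⟩
  have hplus : ∃ W : Submodule F (ι → F), (∀ w ∈ W, Q w = 0) ∧ finrank F W = m := by
    obtain ⟨U, hU, hUd⟩ := hP
    rw [hc.finrank_V] at hUd
    exact ⟨U, hU, by omega⟩
  have h0 := hf.not_le_right
  rcases hRed hm hS hP hc with ⟨v, hv | hv⟩ | ⟨P, hv | hv⟩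
  · exact resV_false hMain hJ hE h0 (Or.inl ⟨rfl, rfl⟩) hc hm hS hP hv
  · exact resV_false hMain hJ hE h0 (Or.inr ⟨rfl, rfl⟩) hc.symm hm hS hP hv
  · exact hD2 (H559.D2.d2_plus hf hv hp hf1 hF' hc.dim hm hplus e)
  · exact hD2 (H559.D2.d2_plus hf.symm hv hp hf1 hF' hc.dim hm hplus e)

/-- **the field `oplus` of `H386.Rg.Inp`**, given the row of `PΩ⁺_8(q)` -/
theorem row_oplus (hRed : PlusRed.{u}) (hD2 : D2False) (hMain : H667.HerFin.Main.{0}) (hJ : H997.Rg.OutJ1.{0})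
    (hfac : ∀ {G : Type u} [Group G] [Finite G] {T H B : Subgroup G}, Ex T H B → Fac T H B)
    (h4 : ∀ (F : Type) [Field F] [Fintype F], Cfsg.Agent.H454.Reg.Row.{0, u} (POmega F (quadFormPlus 4 F)))
    (F : Type) [Field F] [Fintype F] (m : ℕ) (hm : 4 ≤ m) :
    Cfsg.Agent.H454.Reg.Row.{0, u} (POmega F (quadFormPlus m F)) := by
  rcases (by omega : m = 4 ∨ 5 ≤ m) with rfl | h5
  · exact h4 F
  · exact fun _ _ _ hE hT => (no_ex_plus hRed hD2 hMain hJ h5 hE (hfac hE) hT).elim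

end Cfsg.Agent.H826.RgF
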