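import Cfsg.Agent.H826.RgF.Red
import Cfsg.Agent.H826.RgF.Row
import Cfsg.Agent.H117.Rd.Plug
import Cfsg.Agent.H688.Rg.DEven
import Cfsg.Agent.H826.RgF.DOdd

/-!
# S3691: the groups `PΩ⁺_{2m}(q)`, `m ≥ 5` (helper826)
-/

set_option autoImplicit false
set_option linter.unusedSectionVars false

namespace Cfsg.Agent.H826.RgF

open QuadraticMap Module Cfsg Cfsg.Geo
open Cfsg.Agent.LieClassical.OrthCore Cfsg.Agent.LieClassical.OrthTrans
open Cfsg.Agent.ClassicalGeometry.OrthSemi Cfsg.Agent.H454.Reg Cfsg.Agent.H449.Reg Cfsg.Agent.H884.El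
open Cfsg.Agent.H964.Rg (ResV ResP Cx)
open Cfsg.Agent.H955 (IsPlus)
open scoped MatrixGroups Matrix

universe u

/-- **`PΩ⁺_{2m}(q)`, `m ≥ 5`, has no exact factorization of the type `Ex`** -/
theorem no_ex_plus5 (tab : OrdDiv.OrderTable.{0}) (hP5 : H659.CovCore.S5948Stmt.{0})
    (hKS : ∀ (T : Type) [Group T] [Finite T] [IsSimpleGroup T], IsKnownSimple' T)
    (hMain : H667.HerFin.Main.{0}) (hJ : H997.Rg.OutJ1.{0})
    {F : Type} [Field F] [Fintype F] {m : ℕ} (hm : 5 ≤ m) {G : Type u} [Group G] [Finite G] {T H B : Subgroup G}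
    (hE : Ex T H B) (hf : Fac T H B) (hT : Nonempty (T ≃* POmega F (quadFormPlus m F))) : False := by
  obtain ⟨e⟩ := hT
  obtain ⟨p, f, hp, hf1, hF'⟩ := exists_char F
  have hF : Fintype.card F = p ^ f := by rw [← Nat.card_eq_fintype_card]; exact hF'
  have := hf.normal
  obtain ⟨ι, _, _, Q, hG, eT, hI, hc, hP⟩ := H859.Rg.exists_cx_plus hm hp hf1 hF hf ⟨e⟩
  have hS0 := H559.D2.size hF' hm e hf.large
  have hS : H997.Rg.SzM m (p ^ f) := ⟨fun h => by omega, hS0.1, hS0.2⟩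
  have h0 := hf.not_le_right
  rcases red_plus hm hS (fun ho => exists_dodd hP5 hKS hp hf1 hF' hm ho hS)
    (fun hm6 he => H688.Rg.exists_dev hP5 hKS hp hf1 hF' hm6 he hS) hP ⟨e⟩ hc with ⟨v, hv | hv⟩ | ⟨P, hv | hv⟩
  · exact resV_false hMain hJ hE h0 (Or.inl ⟨rfl, rfl⟩) hc hm hS hP hv
  · exact resV_false hMain hJ hE h0 (Or.inr ⟨rfl, rfl⟩) hc.symm hm hS hP hv
  · exact H117.Rd.no_resP_plus tab hKS hf hp hf1 hm hF hc.dim hP hv e
  · exact H117.Rd.no_resP_plus tab hKS hf.symm hp hf1 hm hF hc.dim hP hv e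

/-- **the row of `PΩ⁺_{2m}(q)`, `m ≥ 5`** -/
theorem row_oplus5 (tab : OrdDiv.OrderTable.{0}) (hP5 : H659.CovCore.S5948Stmt.{0})
    (hKS : ∀ (T : Type) [Group T] [Finite T] [IsSimpleGroup T], IsKnownSimple' T)
    (hMain : H667.HerFin.Main.{0}) (hJ : H997.Rg.OutJ1.{0})
    (hfac : ∀ {G : Type u} [Group G] [Finite G] {T H B : Subgroup G}, Ex T H B → Fac T H B)
    (F : Type) [Field F] [Fintype F] (m : ℕ) (hm : 5 ≤ m) :
    Cfsg.Agent.H454.Reg.Row.{0, u} (POmega F (quadFormPlus m F)) :=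
  fun _ _ _ hE hT => (no_ex_plus5 tab hP5 hKS hMain hJ hm hE (hfac hE) hT).elim

/-- **the row of `PΩ⁺_{2m}(q)`, `m ≥ 4`**, given that of `PΩ⁺_8(q)` -/
theorem row_oplus' (tab : OrdDiv.OrderTable.{0}) (hP5 : H659.CovCore.S5948Stmt.{0})
    (hKS : ∀ (T : Type) [Group T] [Finite T] [IsSimpleGroup T], IsKnownSimple' T)
    (hMain : H667.HerFin.Main.{0}) (hJ : H997.Rg.OutJ1.{0})
    (hfac : ∀ {G : Type u} [Group G] [Finite G] {T H B : Subgroup G}, Ex T H B → Fac T H B)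
    (h4 : ∀ (F : Type) [Field F] [Fintype F], Cfsg.Agent.H454.Reg.Row.{0, u} (POmega F (quadFormPlus 4 F)))
    (F : Type) [Field F] [Fintype F] (m : ℕ) (hm : 4 ≤ m) :
    Cfsg.Agent.H454.Reg.Row.{0, u} (POmega F (quadFormPlus m F)) := by
  rcases (by omega : m = 4 ∨ 5 ≤ m) with rfl | h5
  · exact h4 F
  · exact row_oplus5 tab hP5 hKS hMain hJ hfac F m h5

end Cfsg.Agent.H826.RgF
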