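import Cfsg.Agent.H826.RgF.Tools
import Cfsg.Agent.H826.Rg.Bridge
import Cfsg.Agent.H859.Rg.CtxOrth

/-!
# S3691, reduction of the plus type: one factor contains `r_{2m-2}` and `r_{2m-4}` (helper826)
-/

set_option autoImplicit false
set_option linter.unusedSectionVars false

namespace Cfsg.Agent.H826.RgF

open Module QuadraticMap Cfsg Cfsg.Geo Cfsg.Agent.LieClassical.OrthCore Cfsg.Agent.LieClassical.OrthTrans
  Cfsg.Agent.H454.Reg Cfsg.Agent.H449.Reg Cfsg.Agent.H955 Cfsg.Agent.H954.TSing Cfsg.Agent.H884.El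
open Cfsg.Agent.H951 (fx cm Inv)
open Cfsg.Agent.H111.Rg (rstr rstr_apply)
open Cfsg.Agent.H826.Rg (preE mem_preE preE_le_E preE_le_O mem_preE_iff mem_preE_iff' card_preE)
open Cfsg.Agent.H964.Rg (ResV ResP Cx)
open Cfsg.Agent.LieClassical.OrthFinite (glEquiv)
open scoped MatrixGroups Matrix

universe u

/-- the list lemma for groups with elements of orders `a` and `b`, weak form -/
def LB (F : Type) [Field F] (n a b : ℕ) : Prop :=
  ∀ {V : Type} [AddCommGroup V] [Module F V] [FiniteDimensional F V] {Q : QuadraticForm F V}, Nondeg Q → finrank F V = n →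
    ∀ A : Subgroup (V ≃ₗ[F] V), A ≤ O Q → El A a → El A b → Rd A ∨ (∃ s, s.Prime ∧ AExt s A) ∨ E Q ≤ A

/-- the same, symplectic -/
def LBS (F : Type) [Field F] (n a b : ℕ) : Prop :=
  ∀ {V : Type} [AddCommGroup V] [Module F V] [FiniteDimensional F V] {Q : QuadraticForm F V}, Nondeg Q → finrank F V = n →
    ∀ A : Subgroup (V ≃ₗ[F] V), (∀ h ∈ A, ∀ u v, polar Q (h u) (h v) = polar Q u v) → El A a → El A b →
    Rd A ∨ (∃ s, s.Prime ∧ AExt s A) ∨
    (∀ x : V ≃ₗ[F] V, (∀ u v, polar Q (x u) (x v) = polar Q u v) → x ∈ A) ∨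
    (∃ Q' : QuadraticForm F V, (∀ u v, polar Q' u v = polar Q u v) ∧ E Q' ≤ A)

theorem LO.lb {F : Type} [Field F] {n k a b : ℕ} (h : LO F n k a b) : LB F n a b := by
  intro V _ _ _ Q hQ hn A hA ha hb
  rcases h hQ hn A hA ha hb with h1 | ⟨s, hs, -, h1⟩ | h1
  · exact Or.inl h1
  · exact Or.inr (Or.inl ⟨s, hs, h1⟩)
  · exact Or.inr (Or.inr h1)

theorem LB.symm {F : Type} [Field F] {n a b : ℕ} (h : LB F n a b) : LB F n b a :=
  fun hQ hn A hA ha hb => h hQ hn A hA hb ha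

theorem LS.lb {F : Type} [Field F] {n k a b : ℕ} (h : LS F n k a b) : LBS F n a b := by
  intro V _ _ _ Q hQ hn A hA ha hb
  rcases h hQ hn A hA ha hb with h1 | ⟨s, hs, -, h1⟩ | h1 | h1
  · exact Or.inl h1
  · exact Or.inr (Or.inl ⟨s, hs, h1⟩)
  · exact Or.inr (Or.inr (Or.inl h1))
  · exact Or.inr (Or.inr (Or.inr h1))

theorem LBS.symm {F : Type} [Field F] {n a b : ℕ} (h : LBS F n a b) : LBS F n b a :=
  fun hQ hn A hA ha hb => h hQ hn A hA hb ha

section abs

variable {F : Type} [Field F] [Fintype F] {V : Type} [AddCommGroup V] [Module F V] [FiniteDimensional F V]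
  {Q : QuadraticForm F V} {A : Subgroup (V ≃ₗ[F] V)}

/-- `r_{2m-2}` and `r_{2m-4}` in an irreducible group: no quadratic field -/
theorem not_two' (hQ : Nondeg Q) (hA : ∀ h ∈ A, ∀ u v, polar Q (h u) (h v) = polar Q u v) {m r2 r4 : ℕ} (hm : 5 ≤ m)
    (hn : finrank F V ≤ 2 * m) (hr2 : PP (Nat.card F) (2 * m - 2) r2) (hr4 : PP (Nat.card F) (2 * m - 4) r4)
    (h2 : r2 ∣ Nat.card A) (h4 : r4 ∣ Nat.card A) (hrd : ¬ Rd A) (hK : AExt 2 A) : False := by
  refine H522.Rg.sp_not_two hQ hA hr2 hr4 (by omega) (by omega) (fun W hW => ?_) ⟨m - 1, by omega⟩ ⟨m - 2, by omega⟩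
    (by omega) (by omega) ⟨m - 2, by omega⟩ h2 h4 hK
  by_contra hcon
  push Not at hcon
  exact hrd ⟨W, hcon.1, hcon.2, hW⟩

theorem nondeg_line' {v : V} (h2 : (2 : F) ≠ 0) (hv : Q v ≠ 0) : Nondeg (res Q (F ∙ v)) := by
  rw [nondeg_res_iff]
  intro x hx hxy
  obtain ⟨c, rfl⟩ := Submodule.mem_span_singleton.1 hx
  have h4 := hxy v (Submodule.mem_span_singleton_self v)
  rw [polar_smul_left, polar_self', smul_eq_mul] at h4
  rcases mul_eq_zero.1 h4 with h5 | h5
  · rw [h5, zero_smul]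
  · exact absurd h5 (mul_ne_zero h2 hv)

/-- the field degree is two -/
theorem s_two {s r : ℕ} (hs : s.Prime) (hK : AExt s A) {x : V ≃ₗ[F] V} (hx : x ∈ A) (hr : r.Prime) (hxr : x ^ r = 1)
    (hrs : r ≠ s) (hd : finrank F (fx (x : Module.End F V)) = 2) : s = 2 := by
  have h := hK.dvd_fx hx hr hxr hrs
  rw [hd] at h
  exact (Nat.prime_dvd_prime_iff_eq hs Nat.prime_two).1 h

/-- the fixed space of an element of order `r_{2m-2}` is an anisotropic plane -/
theorem fx_type (hQ : Nondeg Q) (hP : IsPlus Q) {m r : ℕ} (hm : 5 ≤ m) (hn : finrank F V = 2 * m)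
    (hr : PP (Nat.card F) (2 * m - 2) r) {x : V ≃ₗ[F] V} (hx : x ∈ O Q) (hxr : x ^ r = 1) (hx1 : x ≠ 1) :
    finrank F (fx (x : Module.End F V)) = 2 ∧ ∀ z ∈ fx (x : Module.End F V), Q z = 0 → z = 0 := by
  obtain ⟨h1, h2, -⟩ := block hr (by omega) (by omega) hx hxr hx1
  have h := iso_of hr (by omega) hx hxr
  have hd : finrank F (fx (x : Module.End F V)) = 2 := by omega
  refine ⟨hd, fun z hz hQz => ?_⟩
  have := Fact.mk hr.prime
  have h3 := isPlus_fx_iff h.two_lt hQ (by rw [hn]; exact even_two_mul m) h.iso h.ne0 h.pow (ord_eq hr)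
    (A := 1) ⟨m - 1, by omega⟩ (by rw [mul_one]; exact h2)
  have h4 : ¬ IsPlus (res Q (fx (x : Module.End F V))) := by
    rw [h3]
    intro h5
    exact absurd (h5.1 hP) (by decide)
  by_contra hz0
  apply h4
  refine ⟨F ∙ (⟨z, hz⟩ : fx (x : Module.End F V)), ?_, ?_⟩
  · intro u hu
    obtain ⟨c, rfl⟩ := Submodule.mem_span_singleton.1 hu
    rw [QuadraticMap.map_smul, res_apply, hQz, smul_zero]
  · rw [finrank_span_singleton (fun h0 => hz0 (congrArg Subtype.val h0)), hd]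

theorem order_one {r : ℕ} (hr : r.Prime) {x : V ≃ₗ[F] V} (hxr : x ^ r = 1) (hx1 : x ≠ 1) : orderOf x = r ^ 1 := by
  have := Fact.mk hr
  rw [pow_one]
  exact orderOf_eq_prime hxr hx1

end abs

section tl

variable {ι : Type} [Fintype ι] [DecidableEq ι] {F : Type} [Field F] [Fintype F] {Q : QuadraticForm F (ι → F)}
variable {G : Type u} [Group G] [Finite G] {T : Subgroup G} [T.Normal] {hG : Good Q} {eT : T ≃* POmega F (⇑Q)}
  {hI : Ind (eP hG eT)} {X Y : Subgroup G} {p f m : ℕ}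

theorem inv0_iffE {W : Submodule F (ι → F)} : Inv0 hI X W ↔ Iv (preE (eP hG eT) X) W := by
  rw [inv0_iff hG]
  constructor
  · intro h g hg w hw
    have h1 := h (mem_preE_iff'.1 hg)
    have h2 := H884.OmegaGL.mem_subspaceStabilizer.1 h1 w hw
    rwa [MulEquiv.apply_symm_apply] at h2
  · intro h g hg
    exact H884.OmegaGL.mem_subspaceStabilizer.2 fun w hw => h _ (mem_preE_iff.2 hg) w hw

theorem not_E_le (hf : ¬ T ≤ X) : ¬ E Q ≤ preE (eP hG eT) X := by
  intro h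
  apply hf
  intro t ht
  obtain ⟨x, hx⟩ := QuotientGroup.mk_surjective (eP hG eT ⟨t, ht⟩)
  have h1 := h x.2
  rw [mem_preE x.2] at h1
  have h2 : (eP hG eT).symm (QuotientGroup.mk ⟨x.1, x.2⟩) = ⟨t, ht⟩ := by
    change (eP hG eT).symm (QuotientGroup.mk x) = _
    rw [hx, MulEquiv.symm_apply_apply]
  rw [h2] at h1
  exact h1

theorem fixed_of_rd {e r : ℕ} (hr : PP (Nat.card F) e r) (he : 2 ≤ e) (hn : finrank F (ι → F) < 2 * e)
    {x : (ι → F) ≃ₗ[F] (ι → F)} (hx : x ∈ preE (eP hG eT) X) (hxr : x ^ r = 1) (hx1 : x ≠ 1)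
    (hred : Rd (preE (eP hG eT) X)) :
    ∃ S : Submodule F (ι → F), S ≠ ⊥ ∧ S ≤ fx (x : Module.End F (ι → F)) ∧ ∀ y ∈ X, act hI y S = S := by
  obtain ⟨hd, -, -⟩ := block hr he hn (preE_le_O hx) hxr hx1
  refine exists_fixed hG hI (k := e) (fun W hW hWe => ?_) ?_
  · exact le_fx hr he (preE_le_O hx) hxr (fun w hw => inv0_iffE.1 hW x hx w hw) hWe
  · obtain ⟨S, hS0, hS, hSx⟩ := rd_fix hG.nondeg preE_le_O hr he hn hx hxr hx1 hred
    have := Submodule.finrank_mono hSx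
    exact ⟨S, inv0_iffE.2 hS, by omega, hS0⟩

theorem fixed_fx {e r : ℕ} (hr : PP (Nat.card F) e r) (he : 2 ≤ e) (hn : finrank F (ι → F) < 2 * e)
    {x : (ι → F) ≃ₗ[F] (ι → F)} (hx : x ∈ preE (eP hG eT) X) (hxr : x ^ r = 1) (hx1 : x ≠ 1)
    (hinv : Iv (preE (eP hG eT) X) (fx (x : Module.End F (ι → F)))) :
    ∀ y ∈ X, act hI y (fx (x : Module.End F (ι → F))) = fx (x : Module.End F (ι → F)) := by
  obtain ⟨hd, -, -⟩ := block hr he hn (preE_le_O hx) hxr hx1
  intro y hy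
  have h1 : Inv0 hI X (act hI y (fx (x : Module.End F (ι → F)))) := (inv0_iffE.2 hinv).act hG hy
  have h2 : act hI y (fx (x : Module.End F (ι → F))) ≤ fx (x : Module.End F (ι → F)) :=
    le_fx hr he (preE_le_O hx) hxr (fun w hw => inv0_iffE.1 h1 x hx w hw) (by rw [finrank_act]; omega)
  exact Submodule.eq_of_le_of_finrank_eq h2 (finrank_act _ _ _)

/-- **`X` fixes the plane** -/
theorem plane_case (hQ2 : IsPlus Q) (hn : finrank F (ι → F) = 2 * m) (hm : 5 ≤ m) {r2 r4 i j : ℕ}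
    (hr2 : PP (Nat.card F) (2 * m - 2) r2) (hr4 : PP (Nat.card F) (2 * m - 4) r4) (hj : 1 ≤ j)
    (h2 : El (preE (eP hG eT) X) (r2 ^ i)) (h4 : El (preE (eP hG eT) X) (r4 ^ j))
    (hL2 : LB F (2 * m - 2) (r2 ^ i) (r4 ^ j))
    {x : (ι → F) ≃ₗ[F] (ι → F)} (hx : x ∈ preE (eP hG eT) X) (hxr : x ^ r2 = 1) (hx1 : x ≠ 1)
    (hinv : Iv (preE (eP hG eT) X) (fx (x : Module.End F (ι → F)))) : ResP hI X (fx (x : Module.End F (ι → F))) := by
  have hQ : Nondeg Q := hG.nondeg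
  have hxO : x ∈ O Q := preE_le_O hx
  obtain ⟨hPd, hPa⟩ := fx_type hQ hQ2 hm hn hr2 hxO hxr hx1
  have hPn : Nondeg (res Q (fx (x : Module.End F (ι → F)))) := nondeg_fx' hQ hr2 (by omega) hxO hxr
  set P := fx (x : Module.End F (ι → F)) with hP
  set U := perp Q P with hU
  have hUn : Nondeg (res Q U) := nondeg_perp hQ hPn
  have hUd : finrank F U = 2 * m - 2 := by rw [hU, finrank_perp hQ, hn, hPd]
  have hUP : perp Q U = P := by rw [hU, perp_perp hQ]
  have hUi : ∀ a ∈ preE (eP hG eT) X, ∀ w ∈ U, a w ∈ U := iv_perp preE_le_O hinv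
  have e2 : El (rstr hUi).range (r2 ^ i) := el_range hr2 (by omega) hUn preE_le_O hUi (by rw [hUP, hPd]; omega) h2
  have e4 : El (rstr hUi).range (r4 ^ j) := el_range hr4 (by omega) hUn preE_le_O hUi (by rw [hUP, hPd]; omega) h4
  have hRO : (rstr hUi).range ≤ O (res Q U) := range_le_O preE_le_O hUi
  -- the image of `x`
  have hxo := order_rstr hr2 (by omega) hUn preE_le_O hUi (by rw [hUP, hPd]; omega) hx (order_one hr2.prime hxr hx1)
  rw [pow_one] at hxo
  set y : U ≃ₗ[F] U := rstr hUi ⟨x, hx⟩ with hy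
  have hyR : y ∈ (rstr hUi).range := ⟨_, rfl⟩
  have hyr : y ^ r2 = 1 := by rw [← hxo, pow_orderOf_eq_one]
  have hy1 : y ≠ 1 := by
    intro h0
    rw [h0, orderOf_one] at hxo
    exact hr2.prime.one_lt.ne hxo
  obtain ⟨hyd, -, -⟩ := block hr2 (by omega) (by rw [hUd]; omega) (hRO hyR) hyr hy1
  have hnrd : ¬ Rd (rstr hUi).range := by
    intro hrd
    obtain ⟨S, hS0, -, hS⟩ := rd_fix hUn hRO hr2 (by omega) (by rw [hUd]; omega) hyR hyr hy1 hrd
    have h5 := Submodule.finrank_mono hS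
    exact hS0 (Submodule.finrank_eq_zero.1 (by omega))
  rcases hL2 hUn hUd (rstr hUi).range hRO e2 e4 with h | ⟨s, hs, hK⟩ | h
  · exact (hnrd h).elim
  · exfalso
    obtain ⟨z, hz, hzr, hz1⟩ := e4.exists_prime hr4.prime hj
    have hzd := H522.Rg.fx_even hr4 (by omega) (by rw [hUd]; omega) hzr hz1
    have hs2 : s = 2 := by
      refine s_two hs hK hz hr4.prime hzr ?_ (by omega)
      rintro rfl
      have h5 := hK.dvd_finrank
      rw [hUd] at h5
      have h6 := hr4.lt (by omega)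
      obtain ⟨c, hc⟩ := h5
      have h7 : c < 2 := by
        by_contra hcon
        push Not at hcon
        have := Nat.mul_le_mul_left r4 hcon
        omega
      have h8 : c = 1 := by
        rcases (by omega : c = 0 ∨ c = 1) with rfl | rfl
        · omega
        · rfl
      rw [h8, mul_one] at hc
      have h9 := hr4.odd (by omega)
      obtain ⟨d, hd⟩ := h9
      omega
    subst hs2
    refine not_two' hUn (fun h hh u v => polar_O (hRO hh) u v) hm (by rw [hUd]; omega) hr2 hr4 ?_ ?_ hnrd hK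
    · have h5 : El (rstr hUi).range r2 := ⟨y, hyR, hxo⟩
      exact h5.dvd
    · exact e4.prime_dvd hj
  · refine ⟨hPd, hPa, fixed_fx hr2 (by omega) (by omega) hx hxr hx1 hinv, fun u w hu hw huU hwU => ?_⟩
    rw [← mem_preE_iff' (hG := hG)]
    exact H111.Rg.lift_plane hQ hPn (by omega) (by omega) preE_le_O (fun a ha z hz => hinv a ha z hz)
      (lift_E hUi h) hu hw huU hwU

/-- **`X` fixes a nonsingular point, `q` odd** -/
theorem line_odd (hQ2 : IsPlus Q) (hn : finrank F (ι → F) = 2 * m) (hm : 5 ≤ m) {r2 r4 i j : ℕ}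
    (hr2 : PP (Nat.card F) (2 * m - 2) r2) (hr4 : PP (Nat.card F) (2 * m - 4) r4) (hj : 1 ≤ j)
    (h2 : El (preE (eP hG eT) X) (r2 ^ i)) (h4 : El (preE (eP hG eT) X) (r4 ^ j))
    (h2F : (2 : F) ≠ 0) (hL1 : LB F (2 * m - 1) (r2 ^ i) (r4 ^ j))
    {x : (ι → F) ≃ₗ[F] (ι → F)} (hx : x ∈ preE (eP hG eT) X) (hxr : x ^ r2 = 1) (hx1 : x ≠ 1)
    {v : ι → F} (hv : v ∈ fx (x : Module.End F (ι → F))) (hv0 : v ≠ 0) (hvX : ∀ y ∈ X, act hI y (F ∙ v) = F ∙ v) :
    ResV hI X v ∨ Iv (preE (eP hG eT) X) (fx (x : Module.End F (ι → F))) := by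
  have hQ : Nondeg Q := hG.nondeg
  have hxO : x ∈ O Q := preE_le_O hx
  obtain ⟨hPd, hPa⟩ := fx_type hQ hQ2 hm hn hr2 hxO hxr hx1
  have hQv : Q v ≠ 0 := fun h0 => hv0 (hPa v hv h0)
  have hLn : Nondeg (res Q (F ∙ v)) := nondeg_line' h2F hQv
  have hLi : Iv (preE (eP hG eT) X) (F ∙ v) := inv0_iffE.1 fun t ht => hvX _ ht
  set U := perp Q (F ∙ v) with hU
  have hUn : Nondeg (res Q U) := nondeg_perp hQ hLn
  have hUd : finrank F U = 2 * m - 1 := by rw [hU, finrank_perp hQ, hn, finrank_span_singleton hv0]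
  have hUP : perp Q U = F ∙ v := by rw [hU, perp_perp hQ]
  have hUPd : finrank F (perp Q U) = 1 := by rw [hUP, finrank_span_singleton hv0]
  have hUi : ∀ a ∈ preE (eP hG eT) X, ∀ w ∈ U, a w ∈ U := iv_perp preE_le_O hLi
  have e2 : El (rstr hUi).range (r2 ^ i) := el_range hr2 (by omega) hUn preE_le_O hUi (by rw [hUPd]; omega) h2
  have e4 : El (rstr hUi).range (r4 ^ j) := el_range hr4 (by omega) hUn preE_le_O hUi (by rw [hUPd]; omega) h4
  have hRO : (rstr hUi).range ≤ O (res Q U) := range_le_O preE_le_O hUi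
  have hxo := order_rstr hr2 (by omega) hUn preE_le_O hUi (by rw [hUPd]; omega) hx (order_one hr2.prime hxr hx1)
  rw [pow_one] at hxo
  set y : U ≃ₗ[F] U := rstr hUi ⟨x, hx⟩ with hy
  have hyR : y ∈ (rstr hUi).range := ⟨_, rfl⟩
  have hyr : y ^ r2 = 1 := by rw [← hxo, pow_orderOf_eq_one]
  have hy1 : y ≠ 1 := by
    intro h0
    rw [h0, orderOf_one] at hxo
    exact hr2.prime.one_lt.ne hxo
  obtain ⟨hyd, -, -⟩ := block hr2 (by omega) (by rw [hUd]; omega) (hRO hyR) hyr hy1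
  rcases hL1 hUn hUd (rstr hUi).range hRO e2 e4 with h | ⟨s, hs, hK⟩ | h
  · right
    obtain ⟨S, hS0, hSi, hS⟩ := rd_fix hUn hRO hr2 (by omega) (by rw [hUd]; omega) hyR hyr hy1 h
    -- the plane
    have hSd : 1 ≤ finrank F S := by
      by_contra hcon
      exact hS0 (Submodule.finrank_eq_zero.1 (by omega))
    have hSm : finrank F (S.map U.subtype) = finrank F S := (LinearEquiv.finrank_eq (Submodule.equivMapOfInjective U.subtype U.subtype_injective S)).symm
    have hdisj : (F ∙ v) ⊓ S.map U.subtype = ⊥ := by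
      rw [eq_bot_iff, ← (isCompl_perp hLn).inf_eq_bot]
      rintro z ⟨hz1, w, hw, rfl⟩
      exact ⟨hz1, w.2⟩
    have hle : (F ∙ v) ⊔ S.map U.subtype ≤ fx (x : Module.End F (ι → F)) := by
      refine sup_le ((Submodule.span_singleton_le_iff_mem _ _).2 hv) ?_
      rintro _ ⟨w, hw, rfl⟩
      have h5 : y w = w := H951.mem_fx.1 (hS hw)
      refine H951.mem_fx.2 ?_
      have h6 := congrArg Subtype.val h5
      exact h6
    have heq : (F ∙ v) ⊔ S.map U.subtype = fx (x : Module.End F (ι → F)) := by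
      apply Submodule.eq_of_le_of_finrank_le hle
      have h5 := Submodule.finrank_sup_add_finrank_inf_eq (F ∙ v) (S.map U.subtype)
      rw [hdisj, finrank_bot, hSm, finrank_span_singleton hv0] at h5
      omega
    rw [← heq]
    intro a ha w hw
    obtain ⟨b, hb, c, ⟨d, hd, rfl⟩, rfl⟩ := Submodule.mem_sup.1 hw
    rw [map_add]
    refine Submodule.add_mem _ (Submodule.mem_sup_left (hLi a ha b hb)) (Submodule.mem_sup_right ?_)
    exact ⟨rstr hUi ⟨a, ha⟩ d, hSi _ ⟨_, rfl⟩ d hd, rfl⟩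
  · exfalso
    obtain ⟨z, hz, hzr, hz1⟩ := e4.exists_prime hr4.prime hj
    have hzd := H522.Rg.fx_even hr4 (by omega) (by rw [hUd]; omega) hzr hz1
    have hlt2 := hr2.lt (by omega)
    have hlt4 := hr4.lt (by omega)
    by_cases hrs : r2 = s
    · have h5 := hK.dvd_fx hz hr4.prime hzr (by
        rw [← hrs]
        exact hr4.ne_of_ne hr2 (by omega))
      have h6 : finrank F (fx (z : Module.End F U)) = 3 := by omega
      rw [h6] at h5
      have := Nat.le_of_dvd (by norm_num) h5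
      omega
    · have h5 := hK.dvd_fx hyR hr2.prime hyr hrs
      have h6 : finrank F (fx (y : Module.End F U)) = 1 := by omega
      rw [h6] at h5
      exact hs.one_lt.ne' (Nat.dvd_one.1 h5)
  · left
    refine ⟨hQv, hvX, fun u w hu hw huv hwv => ?_⟩
    rw [← mem_preE_iff' (hG := hG)]
    have hmem : ∀ {z : ι → F}, polar Q z v = 0 → z ∈ U := by
      intro z hz b hb
      obtain ⟨c, rfl⟩ := Submodule.mem_span_singleton.1 hb
      rw [polar_smul_left, polar_comm, hz, smul_zero]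
    exact H111.Rg.lift_plane hQ hLn (by rw [finrank_span_singleton hv0]; omega) (by omega) preE_le_O
      (fun a ha z hz => hLi a ha z hz) (lift_E hUi h) hu hw (hmem huv) (hmem hwv)

end tl

end Cfsg.Agent.H826.RgF
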