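import Cfsg.Agent.H826.RgF.Both

/-!
# S3691, reduction of the plus type: designated primes (helper826)

* `KX`, `KX6` : the `kext` theorems as hypotheses
* `Dc`, `DOdd`, `DEven` : designated primes with their list lemmas
-/

set_option autoImplicit false

namespace Cfsg.Agent.H826.RgF

open Module QuadraticMap Cfsg Cfsg.Geo Cfsg.Agent.LieClassical.OrthCore Cfsg.Agent.LieClassical.OrthTrans
  Cfsg.Agent.H449.Reg Cfsg.Agent.H955 Cfsg.Agent.H954.TSing Cfsg.Agent.H884.El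

/-- groups normalising a quadratic field, `m` even -/
def KX (F : Type) [Field F] (m a b : ℕ) : Prop :=
  ∀ {V : Type} [AddCommGroup V] [Module F V] [FiniteDimensional F V] {Q : QuadraticForm F V}, Nondeg Q → finrank F V = 2 * m →
    ∀ A : Subgroup (V ≃ₗ[F] V), A ≤ O Q → ¬ Rd A → AExt 2 A → El A a → El A b →
    (∀ t, PP (Nat.card F) (2 * m - 4) t → t ∣ Nat.card A) ∨ (∀ t, PP (Nat.card F) (2 * m - 6) t → t ∣ Nat.card A)

/-- groups normalising a quadratic field, `m = 6` -/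
def KX6 (F : Type) [Field F] (a : ℕ) : Prop :=
  ∀ {V : Type} [AddCommGroup V] [Module F V] [FiniteDimensional F V] {Q : QuadraticForm F V}, Nondeg Q → finrank F V = 12 →
    ∀ A : Subgroup (V ≃ₗ[F] V), A ≤ O Q → ¬ Rd A → AExt 2 A → El A a →
    (∀ t, PP (Nat.card F) 8 t → t ∣ Nat.card A) ∨
      (∀ t b, PP (Nat.card F) 6 t → t ^ b ∣ Nat.card F ^ 6 - 1 → t ^ (2 * b) ∣ Nat.card A)

/-- the designated prime powers `r2 ^ i`, `r4 ^ j` of orders `2 m - 2`, `2 m - 4` -/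
structure Dc (F : Type) [Field F] (p f m r2 i r4 j : ℕ) : Prop where
  pp2 : PP p (f * (2 * m - 2)) r2
  pos2 : 1 ≤ i
  dvd2 : r2 ^ i ∣ (p ^ f) ^ (2 * m - 2) - 1
  pp4 : PP p (f * (2 * m - 4)) r4
  pos4 : 1 ≤ j
  dvd4 : r4 ^ j ∣ (p ^ f) ^ (2 * m - 4) - 1
  lb : LB F (2 * m) (r2 ^ i) (r4 ^ j)
  lb2 : LB F (2 * m - 2) (r2 ^ i) (r4 ^ j)
  lb1 : (2 : F) ≠ 0 → LB F (2 * m - 1) (r2 ^ i) (r4 ^ j)
  lbs : (2 : F) = 0 → LBS F (2 * m - 2) (r2 ^ i) (r4 ^ j)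

/-- `m` odd: `w` a primitive prime of order `m` -/
structure DOdd (F : Type) [Field F] (p f m r2 i r4 j w : ℕ) : Prop where
  dc : Dc F p f m r2 i r4 j
  ppw : PP p (f * m) w
  lo2 : LO F (2 * m) (2 * m - 2) (r2 ^ i) w
  lo4 : LO F (2 * m) (2 * m - 4) (r4 ^ j) w

/-- `m` even: `w` a primitive prime of order `m - 1`, `b` a prime divisor of `q ^ m - 1` or 1, `c` a primitive prime
of order `m - 3` or 1 -/
structure DEven (F : Type) [Field F] (p f m r2 i r4 j w b c : ℕ) : Prop where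
  dc : Dc F p f m r2 i r4 j
  ppw : PP p (f * (m - 1)) w
  lo2 : LO F (2 * m) (2 * m - 2) (r2 ^ i) w
  lo4 : LO F (2 * m) (2 * m - 4) (r4 ^ j) w
  hb : b = 1 ∨ (b.Prime ∧ 30 < b ∧ b ∣ (p ^ f) ^ m - 1 ∧ f = 1 ∧ p ≤ 3 ∧ m = 10)
  lob : LO F (2 * m) (2 * m - 2) (r2 ^ i) b
  hc : c = 1 ∨ PP p (f * (m - 3)) c
  loc : LO F (2 * m) (2 * m - 4) (r4 ^ j) c
  kx : 8 ≤ m → KX F m (r2 ^ i) b
  kx6 : m = 6 → KX6 F (r2 ^ i)

end Cfsg.Agent.H826.RgF
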