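import Cfsg.Agent.H826.RgF.Glue
import Cfsg.Agent.H195.Rg.LineEven

/-!
# S3691, reduction of the plus type: a factor containing `r_{2m-2}` and `r_{2m-4}` (helper826)
-/

set_option autoImplicit false
set_option linter.unusedSectionVars false

namespace Cfsg.Agent.H826.RgF

open Module QuadraticMap Cfsg Cfsg.Geo Cfsg.Agent.LieClassical.OrthCore Cfsg.Agent.LieClassical.OrthTrans
  Cfsg.Agent.H454.Reg Cfsg.Agent.H449.Reg Cfsg.Agent.H955 Cfsg.Agent.H954.TSing Cfsg.Agent.H884.El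
open Cfsg.Agent.H951 (fx cm Inv)
open Cfsg.Agent.H826.Rg (preE mem_preE preE_le_E preE_le_O mem_preE_iff mem_preE_iff' card_preE)
open Cfsg.Agent.H964.Rg (ResV ResP Cx)
open Cfsg.Agent.LieClassical.OrthFinite (glEquiv)
open scoped MatrixGroups Matrix

universe u

variable {ι : Type} [Fintype ι] [DecidableEq ι] {F : Type} [Field F] [Fintype F] {Q : QuadraticForm F (ι → F)}
variable {G : Type u} [Group G] [Finite G] {T : Subgroup G} [T.Normal] {hG : Good Q} {eT : T ≃* POmega F (⇑Q)}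
  {hI : Ind (eP hG eT)} {X Y : Subgroup G} {p f m N : ℕ}

/-- a prime `r ≡ 1 mod (2 m - 2)` does not divide `2 m` -/
theorem not_dvd_two_mul {q m r : ℕ} (hr : PP q (2 * m - 2) r) (hm : 5 ≤ m) : ¬ r ∣ 2 * m := by
  intro h
  have h1 := hr.lt (by omega)
  have h2 := hr.odd (by omega)
  have h3 := (hr.prime.dvd_mul.1 h).resolve_left (fun h0 => by
    have := Nat.le_of_dvd two_pos h0
    omega)
  have := Nat.le_of_dvd (by omega) h3
  omega

/-- **a factor containing `r_{2m-2}` and `r_{2m-4}`** -/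
theorem both (h : Cx hI X Y p f m N) (hP : IsPlus Q) (hm : 5 ≤ m) {r2 i r4 j : ℕ} (hD : Dc F p f m r2 i r4 j)
    (h2 : r2 ^ i ∣ Nat.card (X.subgroupOf T)) (h4 : r4 ^ j ∣ Nat.card (X.subgroupOf T)) :
    (∃ v, ResV hI X v) ∨ ∃ P, ResP hI X P := by
  have hQ : Nondeg Q := hG.nondeg
  have hn : finrank F (ι → F) = 2 * m := h.finrank_V
  have hr2 : PP (Nat.card F) (2 * m - 2) r2 := h.pp hD.pp2
  have hr4 : PP (Nat.card F) (2 * m - 4) r4 := h.pp hD.pp4
  have hi := hD.pos2
  have hj := hD.pos4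
  have e2 : El (preE (eP hG eT) X) (r2 ^ i) := el_preE h hD.pp2 (by omega) (by omega) h2
  have e4 : El (preE (eP hG eT) X) (r4 ^ j) := el_preE h hD.pp4 (by omega) (by omega) h4
  obtain ⟨x, hx, hxr, hx1⟩ := e2.exists_prime hr2.prime hi
  have hxO : x ∈ O Q := preE_le_O hx
  obtain ⟨hPd, hPa⟩ := fx_type hQ hP hm hn hr2 hxO hxr hx1
  have key : Iv (preE (eP hG eT) X) (fx (x : Module.End F (ι → F))) → (∃ v, ResV hI X v) ∨ ∃ P, ResP hI X P := fun hinv =>
    Or.inr ⟨_, plane_case hP hn hm hr2 hr4 hj e2 e4 hD.lb2 hx hxr hx1 hinv⟩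
  have hred : Rd (preE (eP hG eT) X) → (∃ v, ResV hI X v) ∨ ∃ P, ResP hI X P := by
    intro hrd
    obtain ⟨S, hS0, hSx, hS⟩ := fixed_of_rd hr2 (by omega) (by omega) hx hxr hx1 hrd (hI := hI)
    have h5 := Submodule.finrank_mono hSx
    have h6 : 1 ≤ finrank F S := by
      by_contra hcon
      exact hS0 (Submodule.finrank_eq_zero.1 (by omega))
    rcases (by omega : finrank F S = 1 ∨ finrank F S = 2) with h7 | h7
    · obtain ⟨v, hvS, hv0⟩ := Submodule.exists_mem_ne_zero_of_ne_bot hS0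
      have h8 : F ∙ v = S := Submodule.eq_of_le_of_finrank_eq ((Submodule.span_singleton_le_iff_mem v S).2 hvS)
        (by rw [h7, finrank_span_singleton hv0])
      have hv : v ∈ fx (x : Module.End F (ι → F)) := hSx hvS
      have hvX : ∀ y ∈ X, act hI y (F ∙ v) = F ∙ v := by rw [h8]; exact hS
      by_cases h2F : (2 : F) = 0
      · rcases H195.RgL.line_even hP hn hm hr2 hr4 hj e2 e4 h2F (hD.lbs h2F) hx hxr hx1 hv hv0 hvX with h9 | h9
        · exact Or.inl ⟨v, h9⟩
        · exact key h9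
      · rcases line_odd hP hn hm hr2 hr4 hj e2 e4 h2F (hD.lb1 h2F) hx hxr hx1 hv hv0 hvX with h9 | h9
        · exact Or.inl ⟨v, h9⟩
        · exact key h9
    · have h8 : S = fx (x : Module.End F (ι → F)) := Submodule.eq_of_le_of_finrank_eq hSx (by omega)
      apply key
      rw [← h8]
      exact inv0_iffE.1 fun t ht => hS _ ht
  rcases hD.lb hQ hn (preE (eP hG eT) X) preE_le_O e2 e4 with hrd | ⟨s, hs, hK⟩ | hE
  · exact hred hrd
  · by_cases hrd : Rd (preE (eP hG eT) X)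
    · exact hred hrd
    exfalso
    have hs2 : s = 2 := by
      refine s_two hs hK hx hr2.prime hxr ?_ hPd
      rintro rfl
      have h5 := hK.dvd_finrank
      rw [hn] at h5
      exact not_dvd_two_mul hr2 hm h5
    subst hs2
    exact not_two' hQ (fun a ha u v => polar_O (preE_le_O ha) u v) hm (by rw [hn]) hr2 hr4 (e2.prime_dvd hi) (e4.prime_dvd hj) hrd hK
  · exact (not_E_le h.fac.not_le_left hE).elim

end Cfsg.Agent.H826.RgF
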