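import Cfsg.Agent.H826.RgF.Main
import Cfsg.Agent.H308.Rg.NotBoth
import Cfsg.Agent.H499.Rg.PlusY1
import Cfsg.Agent.H499.Rg.PlusY2
import Cfsg.Agent.H920.Rg.BetaX
import Cfsg.Agent.H997.Rg.PlusOdd

/-!
# S3691, reduction of the plus type (helper826)

* `red_plus` : one of the factors is residual (`ResV` or `ResP`), given the designated primes
-/

set_option autoImplicit false
set_option linter.unusedSectionVars false

namespace Cfsg.Agent.H826.RgF

open Module QuadraticMap Cfsg Cfsg.Geo Cfsg.Agent.LieClassical.OrthCore Cfsg.Agent.LieClassical.OrthTrans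
  Cfsg.Agent.H454.Reg Cfsg.Agent.H449.Reg Cfsg.Agent.H955 Cfsg.Agent.H954.TSing Cfsg.Agent.H884.El
open Cfsg.Agent.H826.Rg (preE)
open Cfsg.Agent.H964.Rg (ResV ResP Cx)
open scoped MatrixGroups Matrix

universe u

variable {ι : Type} [Fintype ι] [DecidableEq ι] {F : Type} [Field F] [Fintype F] {Q : QuadraticForm F (ι → F)}
variable {G : Type u} [Group G] [Finite G] {T : Subgroup G} [T.Normal] {hG : Good Q} {eT : T ≃* POmega F (⇑Q)}
  {hI : Ind (eP hG eT)} {X Y : Subgroup G} {p f m : ℕ}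

theorem even_sub (m : ℕ) (hm : 1 ≤ m) : Even (2 * m - 2) := ⟨m - 1, by omega⟩

theorem even_sub4 (m : ℕ) (hm : 2 ≤ m) : Even (2 * m - 4) := ⟨m - 2, by omega⟩

/-- `m` odd, `r_{2m-2}` in `X` -/
theorem red_odd (h : Cx hI X Y p f m (2 * m - 2)) (e : Nonempty (T ≃* POmega F (quadFormPlus m F))) (hP : IsPlus Q) (hm : 5 ≤ m)
    (hodd : Odd m) {r2 i r4 j w : ℕ} (hD : DOdd F p f m r2 i r4 j w) (h2 : r2 ^ i ∣ Nat.card (X.subgroupOf T)) :
    (∃ v, ResV hI X v) ∨ ∃ P, ResP hI X P := by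
  rcases h.side (even_sub4 m (by omega)) (by omega) (by omega) (by omega) hD.dc.pp4 with h4 | h4
  · exact both h hP hm hD.dc h2 (h4 j hD.dc.dvd4)
  · exact (H997.Rg.PlusOdd.mo_false h e hP hm hodd hD h2 (h4 j hD.dc.dvd4)).elim

/-- `m` even, `r_{2m-2}` in `X` -/
theorem red_even (h : Cx hI X Y p f m (2 * m - 2)) (e : Nonempty (T ≃* POmega F (quadFormPlus m F))) (hP : IsPlus Q) (hm : 6 ≤ m)
    (he : Even m) (hq : m = 6 → 2 < p ^ f) {r2 i r4 j w b c : ℕ} (hD : DEv F p f m r2 i r4 j w b c)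
    (h2 : r2 ^ i ∣ Nat.card (X.subgroupOf T)) : (∃ v, ResV hI X v) ∨ ∃ P, ResP hI X P := by
  have hdc := hD.ev.dc
  rcases h.side (even_sub4 m (by omega)) (by omega) (by omega) (by omega) hdc.pp4 with h4 | h4
  · exact both h hP (by omega) hdc h2 (h4 j hdc.dvd4)
  · exfalso
    have h4' := h4 j hdc.dvd4
    have h2p : r2 ∣ Nat.card (X.subgroupOf T) := (dvd_pow_self r2 (by have := hdc.pos2; omega)).trans h2
    have h4p : r4 ∣ Nat.card (Y.subgroupOf T) := (dvd_pow_self r4 (by have := hdc.pos4; omega)).trans h4'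
    have hNB : Rd (preE (eP hG eT) X) → Rd (preE (eP hG eT) Y) → False :=
      fun a b => H308.Rg.not_both_rd h hP (by omega) hdc.pp2 hdc.pp4 h2p h4p a b
    rcases dich_odd h e (by omega) (k := m - 1) (by omega) (by omega) hD.ev.ppw with hw | hw
    · exact H499.Rg.me_y2_of h e hP hm he hq hD h2 h4' hw hNB
    · exact H499.Rg.me_y1_of h e hP hm he hq hD h2 h4' hw hNB fun hY hb =>
        H920.Rg.beta_X h hP hdc.pp4 h4p hD.ev.ppw hw hY hb

/-- **the reduction of the plus type** -/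
theorem red_plus (hm : 5 ≤ m) (hS : H997.Rg.SzM m (p ^ f))
    (hdo : Odd m → ∃ r2 i r4 j w, DOdd F p f m r2 i r4 j w) (hde : 6 ≤ m → Even m → ∃ r2 i r4 j w b c, DEv F p f m r2 i r4 j w b c)
    (hP : IsPlus Q) (e : Nonempty (T ≃* POmega F (quadFormPlus m F))) (h : Cx hI X Y p f m (2 * m - 2)) :
    (∃ v, ResV hI X v ∨ ResV hI Y v) ∨ ∃ P, ResP hI X P ∨ ResP hI Y P := by
  have fin : ((∃ v, ResV hI X v) ∨ ∃ P, ResP hI X P) ∨ ((∃ v, ResV hI Y v) ∨ ∃ P, ResP hI Y P) := by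
    rcases Nat.even_or_odd m with he | hodd
    · have hm6 : 6 ≤ m := by
        obtain ⟨k, hk⟩ := he
        omega
      have hq : m = 6 → 2 < p ^ f := fun h6 => hS.2.2 (by omega)
      obtain ⟨r2, i, r4, j, w, b, c, hD⟩ := hde hm6 he
      rcases h.side (even_sub m (by omega)) (by omega) (by omega) (by omega) hD.ev.dc.pp2 with h2 | h2
      · exact Or.inl (red_even h e hP hm6 he hq hD (h2 i hD.ev.dc.dvd2))
      · exact Or.inr (red_even h.symm e hP hm6 he hq hD (h2 i hD.ev.dc.dvd2))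
    · obtain ⟨r2, i, r4, j, w, hD⟩ := hdo hodd
      rcases h.side (even_sub m (by omega)) (by omega) (by omega) (by omega) hD.dc.pp2 with h2 | h2
      · exact Or.inl (red_odd h e hP hm hodd hD (h2 i hD.dc.dvd2))
      · exact Or.inr (red_odd h.symm e hP hm hodd hD (h2 i hD.dc.dvd2))
  rcases fin with (⟨v, hv⟩ | ⟨P, hv⟩) | (⟨v, hv⟩ | ⟨P, hv⟩)
  · exact Or.inl ⟨v, Or.inl hv⟩
  · exact Or.inr ⟨P, Or.inl hv⟩
  · exact Or.inl ⟨v, Or.inr hv⟩
  · exact Or.inr ⟨P, Or.inr hv⟩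

end Cfsg.Agent.H826.RgF
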