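import Cfsg.Agent.H826.RgF.Defs
import Cfsg.Agent.H522.Rg.PolF
import Cfsg.Agent.H111.Rg.Plane

/-!
# S3691, reduction of the plus type: tools (helper826)

* `iv_perp`, `rd_fix` : invariant subspaces; `fix_pow` : elements of order `r ^ i` act trivially on small subspaces
* `rstr` (helper111): the restriction; `el_range`, `range_le_O`, `lift_E`
-/

set_option autoImplicit false
set_option linter.unusedSectionVars false

namespace Cfsg.Agent.H826.RgF

open Module QuadraticMap Cfsg Cfsg.Geo Cfsg.Agent.LieClassical.OrthCore Cfsg.Agent.LieClassical.OrthTrans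
  Cfsg.Agent.H449.Reg Cfsg.Agent.H955 Cfsg.Agent.H954.TSing Cfsg.Agent.H884.El
open Cfsg.Agent.H951 (fx cm Inv)
open Cfsg.Agent.H111.Rg (rstr rstr_apply)

variable {F : Type} [Field F] {V : Type} [AddCommGroup V] [Module F V] {Q : QuadraticForm F V} {A : Subgroup (V ≃ₗ[F] V)}

theorem polar_O {g : V ≃ₗ[F] V} (hg : g ∈ O Q) (u w : V) : polar Q (g u) (g w) = polar Q u w := by
  rw [mem_O] at hg
  simp only [polar, ← map_add, hg]

theorem iv_perp (hA : A ≤ O Q) {W : Submodule F V} (hW : Iv A W) : Iv A (perp Q W) := by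
  intro a ha w hw u hu
  have h1 : a⁻¹ u ∈ W := hW _ (A.inv_mem ha) u hu
  have h2 : u = a (a⁻¹ u) := by
    change u = (a * a⁻¹) u
    rw [mul_inv_cancel]; rfl
  rw [h2, polar_O (hA ha)]
  exact hw _ h1

/-- the element as an isometry of prime order -/
theorem iso_of [Fintype F] [FiniteDimensional F V] {e r : ℕ} (hr : PP (Nat.card F) e r) (he : 2 ≤ e) {x : V ≃ₗ[F] V} (hx : x ∈ O Q)
    (hxr : x ^ r = 1) : Iso Q (x : Module.End F V) r :=
  Iso.mk' hr he (H522.Rg.coe_pow_one hxr) fun v => mem_O.1 hx v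

theorem El.exists_prime {r i : ℕ} (hr : r.Prime) (hi : 1 ≤ i) (h : El A (r ^ i)) : ∃ x ∈ A, x ^ r = 1 ∧ x ≠ 1 := by
  obtain ⟨g, hg, ho⟩ := h
  obtain ⟨j, rfl⟩ : ∃ j, i = j + 1 := ⟨i - 1, by omega⟩
  refine ⟨g ^ r ^ j, A.pow_mem hg _, ?_, ?_⟩
  · rw [← pow_mul, ← pow_succ, ← ho, pow_orderOf_eq_one]
  · intro h1
    have h2 := orderOf_dvd_of_pow_eq_one h1
    rw [ho] at h2
    have h3 := Nat.le_of_dvd (pow_pos hr.pos _) h2
    have h4 : r ^ j < r ^ (j + 1) := Nat.pow_lt_pow_right hr.one_lt (by omega)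
    omega

theorem El.dvd {a : ℕ} (h : El A a) : a ∣ Nat.card A := by
  obtain ⟨g, hg, ho⟩ := h
  rw [← ho, ← Subgroup.orderOf_mk g hg]
  exact orderOf_dvd_natCard _

theorem El.prime_dvd {r i : ℕ} (hi : 1 ≤ i) (h : El A (r ^ i)) : r ∣ Nat.card A :=
  (dvd_pow_self r (by omega)).trans h.dvd

theorem el_of_dvd [Finite F] [FiniteDimensional F V] {r : ℕ} (hr : r.Prime) (h : r ∣ Nat.card A) : El A r := by
  have hV : Finite V := Module.finite_of_finite F
  have hfin : Finite (V ≃ₗ[F] V) := Finite.of_injective (fun g : V ≃ₗ[F] V => (g : V → V)) DFunLike.coe_injective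
  have := Fact.mk hr
  obtain ⟨x, hx⟩ := exists_prime_orderOf_dvd_card' r h
  exact ⟨x, x.2, by rw [Subgroup.orderOf_coe, hx]⟩

theorem El.exists_elt {r : ℕ} (hr : r.Prime) (h : El A r) : ∃ x ∈ A, x ^ r = 1 ∧ x ≠ 1 :=
  El.exists_prime hr le_rfl (by rwa [pow_one])

section fin

variable [Fintype F] [FiniteDimensional F V]

/-- the block of an element of prime order `r`, `ord_r(q) = e > n / 2` -/
theorem block {e r : ℕ} (hr : PP (Nat.card F) e r) (he : 2 ≤ e) (hn : finrank F V < 2 * e) {x : V ≃ₗ[F] V} (hx : x ∈ O Q)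
    (hxr : x ^ r = 1) (hx1 : x ≠ 1) :
    finrank F (fx (x : Module.End F V)) + e = finrank F V ∧ finrank F (cm (x : Module.End F V)) = e ∧
      ∀ W : Submodule F V, (∀ w ∈ W, x w ∈ W) → W ≤ fx (x : Module.End F V) ∨ cm (x : Module.End F V) ≤ W := by
  have h := iso_of hr he hx hxr
  have h1 := H522.Rg.fx_even hr he hn hxr hx1
  have h2 := h.finrank_add
  have hcm : finrank F (cm (x : Module.End F V)) = e := by omega
  refine ⟨h1, hcm, fun W hW => ?_⟩
  have h3 := h.dvd hr (W := W) hW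
  have h4 : finrank F ↥(W ⊓ cm (x : Module.End F V)) ≤ finrank F (cm (x : Module.End F V)) :=
    Submodule.finrank_mono inf_le_right
  rcases Nat.eq_zero_or_pos (finrank F ↥(W ⊓ cm (x : Module.End F V))) with h5 | h5
  · left
    have h6 : W ⊓ cm (x : Module.End F V) = ⊥ := Submodule.finrank_eq_zero.1 h5
    have h7 := H951.inf_fx_sup_inf_cm h.ne0 h.pow (W := W) hW
    rw [h6, sup_bot_eq] at h7
    rw [← h7]
    exact inf_le_right
  · right
    have := Nat.le_of_dvd h5 h3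
    have h6 : W ⊓ cm (x : Module.End F V) = cm (x : Module.End F V) :=
      Submodule.eq_of_le_of_finrank_eq inf_le_right (by omega)
    rw [← h6]
    exact inf_le_left

theorem perp_cm' (hQ : Nondeg Q) {e r : ℕ} (hr : PP (Nat.card F) e r) (he : 2 ≤ e) {x : V ≃ₗ[F] V} (hx : x ∈ O Q)
    (hxr : x ^ r = 1) : perp Q (cm (x : Module.End F V)) = fx (x : Module.End F V) := by
  have h := iso_of hr he hx hxr
  exact perp_cm hQ h.iso h.ne0 h.pow

theorem nondeg_cm' (hQ : Nondeg Q) {e r : ℕ} (hr : PP (Nat.card F) e r) (he : 2 ≤ e) {x : V ≃ₗ[F] V} (hx : x ∈ O Q)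
    (hxr : x ^ r = 1) : Nondeg (res Q (cm (x : Module.End F V))) := by
  have h := iso_of hr he hx hxr
  exact nondeg_cm hQ h.iso h.ne0 h.pow

theorem nondeg_fx' (hQ : Nondeg Q) {e r : ℕ} (hr : PP (Nat.card F) e r) (he : 2 ≤ e) {x : V ≃ₗ[F] V} (hx : x ∈ O Q)
    (hxr : x ^ r = 1) : Nondeg (res Q (fx (x : Module.End F V))) := by
  rw [← perp_cm' hQ hr he hx hxr]
  exact nondeg_perp hQ (nondeg_cm' hQ hr he hx hxr)

/-- **a reducible group has an invariant subspace in the fixed space of `x`** -/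
theorem rd_fix (hQ : Nondeg Q) (hA : A ≤ O Q) {e r : ℕ} (hr : PP (Nat.card F) e r) (he : 2 ≤ e) (hn : finrank F V < 2 * e)
    {x : V ≃ₗ[F] V} (hx : x ∈ A) (hxr : x ^ r = 1) (hx1 : x ≠ 1) (hred : Rd A) :
    ∃ S : Submodule F V, S ≠ ⊥ ∧ Iv A S ∧ S ≤ fx (x : Module.End F V) := by
  obtain ⟨W, hW0, hW1, hW⟩ := hred
  obtain ⟨-, -, hb⟩ := block hr he hn (hA hx) hxr hx1
  rcases hb W (fun w hw => hW x hx w hw) with h | h
  · exact ⟨W, hW0, hW, h⟩
  · refine ⟨perp Q W, fun h0 => hW1 ?_, iv_perp hA hW, ?_⟩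
    · rw [← perp_perp hQ W, h0, perp_bot]
    · rw [← perp_cm' hQ hr he (hA hx) hxr]
      intro v hv u hu
      exact hv u (h hu)

/-- small invariant subspaces are fixed pointwise -/
theorem le_fx {e r : ℕ} (hr : PP (Nat.card F) e r) (he : 2 ≤ e) {x : V ≃ₗ[F] V} (hx : x ∈ O Q) (hxr : x ^ r = 1)
    {W : Submodule F V} (hW : ∀ w ∈ W, x w ∈ W) (hd : finrank F W < e) : W ≤ fx (x : Module.End F V) :=
  (iso_of hr he hx hxr).le_fx hr hW hd

/-- an element of order `r ^ i` acts trivially on small invariant subspaces -/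
theorem fix_pow {e r : ℕ} (hr : PP (Nat.card F) e r) (he : 1 ≤ e) {W : Submodule F V} (hd : finrank F W < e) :
    ∀ (i : ℕ) (g : V ≃ₗ[F] V), (∀ w ∈ W, g w ∈ W) → g ^ r ^ i = 1 → ∀ w ∈ W, g w = w := by
  intro i
  induction i with
  | zero =>
    intro g _ hg w _
    rw [pow_zero, pow_one] at hg
    rw [hg]; rfl
  | succ i ih =>
    intro g hW hg w hw
    have hWn : ∀ n : ℕ, ∀ w ∈ W, (g ^ n) w ∈ W := by
      intro n
      induction n with
      | zero => intro w hw; exact hw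
      | succ n ihn =>
        intro w hw
        rw [pow_succ']
        exact hW _ (ihn w hw)
    have h1 := ih (g ^ r) (hWn r) (by rw [← pow_mul, ← pow_succ', hg])
    have := Fact.mk hr.prime
    let z : Module.End F W := (g : V →ₗ[F] V).restrict hW
    have hz : ∀ (n : ℕ) (u : W), (((z ^ n) u : W) : V) = (g ^ n) u := by
      intro n
      induction n with
      | zero => intro u; rfl
      | succ n ihn =>
        intro u
        rw [pow_succ', pow_succ']
        change g (((z ^ n) u : W) : V) = g ((g ^ n) u)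
        rw [ihn]
    have hz1 : z ^ r = 1 := by
      apply LinearMap.ext
      intro u
      apply Subtype.ext
      rw [hz, h1 u u.2]
      rfl
    have h0 := hr.ne0 (F := F) he
    have h2 := H951.ord_dvd_finrank hz1 H951.inv_cm (H951.inf_fx_of_le_cm h0 hz1 le_rfl)
    rw [ord_eq hr] at h2
    have h3 : finrank F (cm z) ≤ finrank F W := Submodule.finrank_le _
    have h4 : finrank F (cm z) = 0 := by
      by_contra hne
      have := Nat.le_of_dvd (Nat.pos_of_ne_zero hne) h2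
      omega
    have h5 : z = 1 := by
      by_contra hne
      exact cm_ne_bot hne (Submodule.finrank_eq_zero.1 h4)
    have h6 : ((z ⟨w, hw⟩ : W) : V) = w := by rw [h5]; rfl
    exact h6

/-! ### restriction -/

theorem range_le_O {U : Submodule F V} (hA : A ≤ O Q) (hU : ∀ a ∈ A, ∀ w ∈ U, a w ∈ U) : (rstr hU).range ≤ O (res Q U) := by
  rintro _ ⟨a, rfl⟩
  rw [mem_O]
  intro u
  rw [res_apply, res_apply, rstr_apply]
  exact mem_O.1 (hA a.2) _

theorem card_range_dvd' {U : Submodule F V} (hU : ∀ a ∈ A, ∀ w ∈ U, a w ∈ U) : Nat.card (rstr hU).range ∣ Nat.card A :=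
  Subgroup.card_range_dvd _

/-- an isometry trivial on a nondegenerate subspace and on its complement is trivial -/
theorem eq_one_of_triv {U : Submodule F V} (hU : Nondeg (res Q U)) {g : V ≃ₗ[F] V} (h1 : ∀ u ∈ U, g u = u)
    (h2 : ∀ u ∈ perp Q U, g u = u) : g = 1 := by
  apply LinearEquiv.ext
  intro v
  have hv : v ∈ U ⊔ perp Q U := by rw [(isCompl_perp hU).sup_eq_top]; trivial
  obtain ⟨a, ha, b, hb, rfl⟩ := Submodule.mem_sup.1 hv
  rw [map_add, h1 a ha, h2 b hb]
  rfl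

theorem rstr_pow {U : Submodule F V} (hU : ∀ a ∈ A, ∀ w ∈ U, a w ∈ U) (a : A) (n : ℕ) (u : U) :
    ((((rstr hU a) ^ n : U ≃ₗ[F] U) u : U) : V) = ((a : V ≃ₗ[F] V) ^ n) u := by
  rw [← map_pow, rstr_apply]
  rfl

/-- **elements of the restriction** -/
theorem order_rstr {e r i : ℕ} (hr : PP (Nat.card F) e r) (he : 1 ≤ e) {U : Submodule F V} (hUn : Nondeg (res Q U))
    (hA : A ≤ O Q) (hU : ∀ a ∈ A, ∀ w ∈ U, a w ∈ U) (hd : finrank F (perp Q U) < e) {g : V ≃ₗ[F] V} (hg : g ∈ A) (ho : orderOf g = r ^ i) :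
    orderOf (rstr hU ⟨g, hg⟩) = r ^ i := by
  rw [← ho, orderOf_eq_orderOf_iff]
  intro n
  have hg1 : ∀ w ∈ perp Q U, g w = w := fix_pow hr he hd i g (fun w hw => iv_perp hA hU g hg w hw)
    (by rw [← ho, pow_orderOf_eq_one])
  constructor
  · intro h
    refine eq_one_of_triv hUn (fun u hu => ?_) fun u hu => ?_
    · have h1 := rstr_pow hU ⟨g, hg⟩ n ⟨u, hu⟩
      rw [h] at h1
      exact h1.symm
    · have h2 : ∀ n : ℕ, (g ^ n) u = u := by
        intro n
        induction n with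
        | zero => rfl
        | succ n ih =>
          rw [pow_succ']
          change g ((g ^ n) u) = u
          rw [ih, hg1 u hu]
      exact h2 n
  · intro h
    apply LinearEquiv.ext
    intro u
    apply Subtype.ext
    rw [rstr_pow]
    change (g ^ n) u = u
    rw [h]
    rfl

theorem el_range {e r i : ℕ} (hr : PP (Nat.card F) e r) (he : 1 ≤ e) {U : Submodule F V} (hUn : Nondeg (res Q U))
    (hA : A ≤ O Q) (hU : ∀ a ∈ A, ∀ w ∈ U, a w ∈ U) (hd : finrank F (perp Q U) < e) (h : El A (r ^ i)) : El (rstr hU).range (r ^ i) := by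
  obtain ⟨g, hg, ho⟩ := h
  exact ⟨_, ⟨⟨g, hg⟩, rfl⟩, order_rstr hr he hUn hA hU hd hg ho⟩

/-- the elements of `Ω(U)` lift -/
theorem lift_E {U : Submodule F V} (hU : ∀ a ∈ A, ∀ w ∈ U, a w ∈ U) (h : E (res Q U) ≤ (rstr hU).range) :
    ∀ y ∈ E (res Q U), ∃ a ∈ A, ∀ w : U, a w = y w := by
  intro y hy
  obtain ⟨a, ha⟩ := h hy
  refine ⟨a, a.2, fun w => ?_⟩
  rw [← ha, rstr_apply]

end fin

end Cfsg.Agent.H826.RgF
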